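import Cfsg.Agent.ChevUnip.Radical
import Mathlib.GroupTheory.PGroup
import Mathlib.FieldTheory.Finite.Basic

/-!
# Steinberg's count of unipotent elements

By induction over `J`: the number of `p`-elements of `P_J` is `q ^ (N + ℓ(w_J))`. The alternating
sum of the permutation characters of `P_J` on the cosets of the `P_K`, `K ⊆ J`, is supported on
the radical among the `p`-elements, and the count follows from the Poincaré sums.
-/

set_option autoImplicit false

namespace CfsgLib.ChevUnip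

open Cfsg.Lie CfsgLib CfsgLib.Chevalley
open scoped MatrixGroups

variable {D : ChevalleyDatum} {C : Weyl.Cert D.rank} {M : CoxeterMatrix (Fin D.rank)}
  {R : Weyl.RootTable} {F : Type*} [Field F]

local notation "ℓ" => CoxeterSystem.length (CoxeterMatrix.toCoxeterSystem M)

/-- An element of `p`-power order. -/
def PEl (p : ℕ) {G : Type*} [Monoid G] (u : G) : Prop := ∃ k : ℕ, u ^ p ^ k = 1

theorem PEl.conj {p : ℕ} {G : Type*} [Group G] {u : G} (g : G) (hu : PEl p u) :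
    PEl p (g * u * g⁻¹) := by
  obtain ⟨k, hk⟩ := hu
  exact ⟨k, by rw [conj_pow, hk, mul_one, mul_inv_cancel]⟩

variable (hW : GoodWeyl D) (h : Weyl.RootGood C M R)

/-- The elements of `p`-power order in `P_J`. -/
def pelSet (p : ℕ) (F : Type*) [Field F] (J : Finset (Fin D.rank)) : Set (GL D.Idx F) :=
  {u | u ∈ PJ hW F J ∧ PEl p u}

/-- The number of fixed cosets of `P_K` in `P_J`. -/
noncomputable def fixCount (J K : Finset (Fin D.rank)) (u : GL D.Idx F) : ℕ :=
  Nat.card {x : GL D.Idx F ⧸ PJ hW F K // x ∈ pjCosets hW F J K ∧ u • x = x}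

/-- The alternating sum of the permutation characters of `P_J`. -/
noncomputable def stVal (J : Finset (Fin D.rank)) (u : GL D.Idx F) : ℤ :=
  ∑ K ∈ J.powerset, (-1 : ℤ) ^ K.card * (fixCount hW J K u : ℤ)

theorem PJ_empty : PJ hW F ∅ = D.borelSubgroup F := by simp [PJ]

variable [Finite F] (p : ℕ) [Fact p.Prime] [CharP F p]

omit [Finite F] in
theorem conj_pos {u g : GL D.Idx F} (hu : u ∈ D.posUnipotent F) (hg : g ∈ D.borelSubgroup F)
    (hW : GoodWeyl D) : g⁻¹ * u * g ∈ D.posUnipotent F := by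
  have hn : g⁻¹ ∈ Subgroup.normalizer (D.posUnipotent F : Set (GL D.Idx F)) :=
    sup_le Subgroup.le_normalizer (diag_le_normalizer_pos hW) (inv_mem hg)
  have := (Subgroup.mem_normalizer_iff.1 hn u).1 hu
  rwa [inv_inv] at this

theorem exists_card_eq : ∃ f : ℕ, 0 < f ∧ Nat.card F = p ^ f := by
  have := Fintype.ofFinite F
  obtain ⟨f, -, hf⟩ := FiniteField.card F p
  exact ⟨f, f.pos, by rw [Nat.card_eq_fintype_card]; exact hf⟩

theorem pel_of_mem_pos (hW : GoodWeyl D) {u : GL D.Idx F} (hu : u ∈ D.posUnipotent F) :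
    PEl p u := by
  obtain ⟨f, -, hf⟩ := exists_card_eq (F := F) p
  refine ⟨f * half D, ?_⟩
  rw [pow_mul, ← hf, ← natCard_uGe (b := false) hW.toGoodUni, ← posUnipotent_eq hW.good]
  exact congrArg Subtype.val (pow_card_eq_one' (x := (⟨u, hu⟩ : D.posUnipotent F)))

theorem eq_one_of_diag (hW : GoodWeyl D) {k : GL D.Idx F} (hk : k ∈ D.diagonalSubgroup F) {m : ℕ}
    (hm : k ^ p ^ m = 1) : k = 1 := by
  obtain ⟨f, hf0, hf⟩ := exists_card_eq (F := F) p
  rw [diagonalSubgroup_eq_range hW] at hk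
  obtain ⟨c, rfl⟩ := hk
  have h1 : torHom D F c ^ (Nat.card F - 1) = 1 := by
    rw [← map_pow, show c ^ (Nat.card F - 1) = 1 from funext fun i => by
      rw [Pi.pow_apply, Pi.one_apply, ← Nat.card_units]
      exact pow_card_eq_one', map_one]
  rw [← orderOf_eq_one_iff]
  refine Nat.eq_one_of_dvd_coprimes ?_ (orderOf_dvd_of_pow_eq_one hm) (orderOf_dvd_of_pow_eq_one h1)
  refine Nat.Coprime.pow_left _ ((Fact.out : p.Prime).coprime_iff_not_dvd.2 fun hd => ?_)
  have hpos : 1 ≤ p ^ f := Nat.one_le_pow _ _ (Fact.out : p.Prime).pos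
  rw [hf] at hd
  have := Nat.dvd_sub (dvd_pow_self p hf0.ne') hd
  rw [show p ^ f - (p ^ f - 1) = 1 by omega] at this
  exact (Fact.out : p.Prime).not_dvd_one this

/-- The elements of `p`-power order in `B` lie in `U`. -/
theorem mem_pos_of_pel (hW : GoodWeyl D) {g : GL D.Idx F} (hg : g ∈ D.borelSubgroup F)
    (hp : PEl p g) : g ∈ D.posUnipotent F := by
  obtain ⟨v, hv, k, hk, rfl⟩ := (mem_borel_iff hW).1 hg
  have hpow : ∀ m : ℕ, ∃ v' ∈ D.posUnipotent F, (v * k) ^ m = v' * k ^ m := by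
    intro m
    induction m with
    | zero => exact ⟨1, one_mem _, by simp⟩
    | succ m ih =>
      obtain ⟨v', hv', e⟩ := ih
      refine ⟨v' * (k ^ m * v * (k ^ m)⁻¹), mul_mem hv' ?_, ?_⟩
      · exact (Subgroup.mem_normalizer_iff.1
          (diag_le_normalizer_pos hW (pow_mem hk m)) v).1 hv
      · rw [pow_succ, e, pow_succ]; group
  obtain ⟨m, hm⟩ := hp
  obtain ⟨v', hv', e⟩ := hpow (p ^ m)
  rw [hm] at e
  have hkm : k ^ p ^ m ∈ D.posUnipotent F ⊓ D.diagonalSubgroup F := by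
    refine Subgroup.mem_inf.2 ⟨?_, pow_mem hk _⟩
    rw [eq_inv_of_mul_eq_one_right e.symm]
    exact inv_mem hv'
  rw [pos_inf_diag hW, Subgroup.mem_bot] at hkm
  rw [eq_one_of_diag p hW hk hkm, mul_one]
  exact hv

include hW h

theorem card_cosets_modEq (J : Finset (Fin D.rank)) :
    Nat.card (pjCosets hW F J ∅) ≡ 1 [MOD p] := by
  classical
  have := h.finite_group
  have := Fintype.ofFinite M.Group
  obtain ⟨f, hf0, hf⟩ := exists_card_eq (F := F) p
  have e1 := ncard_pjCosets_filter (F := F) hW h (Finset.empty_subset J) (fun _ => True)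
    (fun _ => True) (fun _ _ _ _ => Iff.rfl)
  have e2 : Nat.card (pjCosets hW F J ∅) = ∑ w ∈ minSet h J ∅, Nat.card F ^ ℓ w := by
    rw [Nat.card_congr (Equiv.subtypeEquivRight (q := fun x => x ∈ pjCosets hW F J ∅ ∧ True) (fun x => (and_iff_left trivial).symm)), e1]
    refine Finset.sum_congr rfl fun w _ => ?_
    rw [← natCard_cellQ (F := F) hW h w]
    exact Nat.card_congr (Equiv.subtypeEquivRight fun x => and_iff_left trivial)
  rw [e2, ← ZMod.natCast_eq_natCast_iff, Nat.cast_one, Nat.cast_sum,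
    Finset.sum_eq_single (1 : M.Group)]
  · simp
  · intro w _ hw
    rw [Nat.cast_pow, hf, Nat.cast_pow, ZMod.natCast_self, zero_pow hf0.ne',
      zero_pow (fun e => hw ((M.toCoxeterSystem.length_eq_zero_iff).1 e))]
  · intro hn
    exact absurd ((mem_minSet h).2 ⟨one_mem _, fun k hk => absurd hk (Finset.notMem_empty k)⟩) hn

/-- Every element of `p`-power order of `P_J` is conjugate in `P_J` to one of `U`. -/
theorem exists_conj_mem_pos {J : Finset (Fin D.rank)} {u : GL D.Idx F}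
    (hu : u ∈ pelSet hW p F J) :
    ∃ g ∈ PJ hW F J, g⁻¹ * u * g ∈ D.posUnipotent F := by
  classical
  obtain ⟨huJ, k, hk⟩ := hu
  let X : SubMulAction (Subgroup.zpowers u) (GL D.Idx F ⧸ PJ hW F ∅) :=
    { carrier := pjCosets hW F J ∅
      smul_mem' := by
        rintro ⟨a, ha⟩ _ ⟨g, hg, rfl⟩
        exact ⟨a * g, mul_mem ((Subgroup.zpowers_le.2 huJ) ha) hg, rfl⟩ }
  have hP : IsPGroup p (Subgroup.zpowers u) := by
    rintro ⟨a, ha⟩
    obtain ⟨i, rfl⟩ := Subgroup.mem_zpowers_iff.1 ha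
    refine ⟨k, Subtype.ext ?_⟩
    show (u ^ i) ^ p ^ k = 1
    rw [← zpow_natCast, ← zpow_mul, mul_comm, zpow_mul, zpow_natCast, hk, one_zpow]
  have hmod := hP.card_modEq_card_fixedPoints X
  have hne : (MulAction.fixedPoints (Subgroup.zpowers u) X).Nonempty := by
    by_contra hne
    rw [Set.not_nonempty_iff_eq_empty] at hne
    rw [hne, Nat.card_coe_set_eq, Set.ncard_empty] at hmod
    have h1 : (Nat.card (pjCosets hW F J ∅)) ≡ 0 [MOD p] := hmod
    exact (Fact.out : p.Prime).ne_one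
      (Nat.dvd_one.1 ((Nat.modEq_zero_iff_dvd).1 ((card_cosets_modEq hW h p J).symm.trans h1)))
  obtain ⟨⟨x, g, hg, rfl⟩, hx⟩ := hne
  have h2 : u • ((g : GL D.Idx F) : GL D.Idx F ⧸ PJ hW F ∅) = g :=
    congrArg Subtype.val (hx ⟨u, Subgroup.mem_zpowers u⟩)
  have h3 : (u * g)⁻¹ * g ∈ PJ hW F ∅ := QuotientGroup.eq.1 h2
  rw [PJ_empty] at h3
  refine ⟨g, hg, mem_pos_of_pel p hW ?_ ?_⟩
  · have := inv_mem h3
    rwa [show ((u * g)⁻¹ * g)⁻¹ = g⁻¹ * u * g by group] at this
  · simpa using PEl.conj g⁻¹ (⟨k, hk⟩ : PEl p u)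

omit h [Finite F] [Fact p.Prime] [CharP F p] in
theorem fixCount_conj {J K : Finset (Fin D.rank)} {g : GL D.Idx F} (hg : g ∈ PJ hW F J)
    (u : GL D.Idx F) : fixCount hW J K (g * u * g⁻¹) = fixCount hW J K u := by
  refine Nat.card_congr (Equiv.subtypeEquiv (MulAction.toPerm g⁻¹) fun x => ?_)
  rw [MulAction.toPerm_apply]
  have hmem : x ∈ pjCosets hW F J K ↔ g⁻¹ • x ∈ pjCosets hW F J K := by
    constructor
    · rintro ⟨a, ha, rfl⟩
      exact ⟨g⁻¹ * a, mul_mem (inv_mem hg) ha, rfl⟩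
    · rintro ⟨a, ha, e⟩
      exact ⟨g * a, mul_mem hg ha, by
        rw [← smul_inv_smul g x, ← e]; rfl⟩
  rw [hmem, mul_smul, mul_smul, ← eq_inv_smul_iff]

omit h [Finite F] [Fact p.Prime] [CharP F p] in
theorem stVal_conj {J : Finset (Fin D.rank)} {g : GL D.Idx F} (hg : g ∈ PJ hW F J)
    (u : GL D.Idx F) : stVal hW J (g * u * g⁻¹) = stVal hW J u :=
  Finset.sum_congr rfl fun K _ => by rw [fixCount_conj hW hg]

omit [Fact p.Prime] [CharP F p] in
open scoped Classical in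
/-- On `U` the alternating sum is supported on the radical. -/
theorem stVal_of_mem_pos {J : Finset (Fin D.rank)} {t : M.Group} (ht : IsTopRep h J t)
    {u : GL D.Idx F} (hu : u ∈ D.posUnipotent F) :
    stVal hW J u = if u ∈ QJ hW F J then (Nat.card F : ℤ) ^ ℓ t else 0 := by
  have := h.finite_group
  have := Fintype.ofFinite M.Group
  let f : M.Group → ℤ := fun w => (Nat.card {x : GL D.Idx F ⧸ D.borelSubgroup F //
    x ∈ cellQ hW h F w ∧ u • x = x} : ℤ)
  have e1 : stVal hW J u = f t := by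
    rw [← alt_sum_minSet h ht f]
    refine Finset.sum_congr rfl fun K hK => ?_
    rw [fixCount, ncard_pjCosets_filter hW h (Finset.mem_powerset.1 hK)
      (fun x => u • x = x) (fun x => u • x = x) ?_, Nat.cast_sum]
    intro w hw x hx
    rw [← projPJ_smul]
    refine ⟨fun e => ?_, fun e => by rw [e]⟩
    obtain ⟨g, hg, rfl⟩ := hx
    have hux : u • ((g : GL D.Idx F) : GL D.Idx F ⧸ D.borelSubgroup F) ∈ cellQ hW h F w :=
      ⟨u * g, borel_mul_mem_cell hW h (pos_le_borel D hu) hg, rfl⟩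
    exact (eq_of_proj_eq hW h ((mem_minSet h).1 hw).2 ((mem_minSet h).1 hw).2 hux ⟨g, hg, rfl⟩ e).2
  rw [e1]
  set n := nW hW h F t
  have key : ∀ x ∈ cellQ hW h F t, u • x = x ↔ u ∈ QJ hW F J := by
    rintro _ ⟨_, ⟨b, hb, b', hb', rfl⟩, rfl⟩
    have e2 : u • ((b * n * b' : GL D.Idx F) : GL D.Idx F ⧸ D.borelSubgroup F) =
        ((b * n * b' : GL D.Idx F) : GL D.Idx F ⧸ D.borelSubgroup F) ↔
        n⁻¹ * (b⁻¹ * u * b) * n ∈ D.borelSubgroup F := by
      show ((u * (b * n * b') : GL D.Idx F) : GL D.Idx F ⧸ D.borelSubgroup F) = _ ↔ _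
      rw [QuotientGroup.eq, ← inv_mem_iff, show ((u * (b * n * b'))⁻¹ * (b * n * b'))⁻¹ =
        b'⁻¹ * (n⁻¹ * (b⁻¹ * u * b) * n) * b' by group,
        Subgroup.mul_mem_cancel_right _ hb', Subgroup.mul_mem_cancel_left _ (inv_mem hb')]
    rw [e2]
    have hbn := Subgroup.mem_normalizer_iff.1 (PJ_le_normalizer hW h ht (borel_le_PJ hW J (inv_mem hb))) u
    rw [inv_inv] at hbn
    constructor
    · intro e
      exact hbn.2 (mem_QJ_of_mem hW h ht (conj_pos hu hb hW) e)
    · intro e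
      exact QJ_le_borel hW J (conj_inv_mem_QJ hW h (monBy_nW hW h t) ht.1 (hbn.1 e))
  by_cases hQ : u ∈ QJ hW F J
  · rw [if_pos hQ]
    show ((Nat.card _ : ℕ) : ℤ) = _
    rw [← Nat.cast_pow, ← natCard_cellQ (F := F) hW h t]
    exact congrArg Nat.cast (Nat.card_congr (Equiv.subtypeEquivRight fun x =>
      ⟨fun e => e.1, fun e => ⟨e, (key x e).2 hQ⟩⟩))
  · rw [if_neg hQ]
    show ((Nat.card _ : ℕ) : ℤ) = _
    rw [Nat.cast_eq_zero, Nat.card_eq_zero]
    exact Or.inl ⟨fun x => hQ ((key x.1 x.2.1).1 x.2.2)⟩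

open scoped Classical in
theorem sum_stVal {J : Finset (Fin D.rank)} {t : M.Group} (ht : IsTopRep h J t) :
    ∑ u ∈ (Set.toFinite (pelSet hW p F J)).toFinset, stVal hW J u =
      (Nat.card F : ℤ) ^ half D := by
  have hval : ∀ u ∈ pelSet hW p F J,
      stVal hW J u = if u ∈ QJ hW F J then (Nat.card F : ℤ) ^ ℓ t else 0 := by
    intro u hu
    obtain ⟨g, hg, hgu⟩ := exists_conj_mem_pos hW h p hu
    have hn := Subgroup.mem_normalizer_iff.1 (PJ_le_normalizer hW h ht (inv_mem hg)) u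
    rw [inv_inv] at hn
    conv_lhs => rw [show u = g * (g⁻¹ * u * g) * g⁻¹ by group]
    rw [stVal_conj hW hg, stVal_of_mem_pos hW h ht hgu]
    exact if_congr hn.symm rfl rfl
  rw [Finset.sum_congr rfl fun u hu => hval u ((Set.Finite.mem_toFinset _).1 hu),
    ← Finset.sum_filter, Finset.sum_const, nsmul_eq_mul]
  have hf : (Set.toFinite (pelSet hW p F J)).toFinset.filter (fun u => u ∈ QJ hW F J) =
      (Set.toFinite (QJ hW F J : Set (GL D.Idx F))).toFinset := by
    ext u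
    simp only [Finset.mem_filter, Set.Finite.mem_toFinset, SetLike.mem_coe]
    exact ⟨fun e => e.2, fun e =>
      ⟨⟨borel_le_PJ hW J (QJ_le_borel hW J e), pel_of_mem_pos p hW (QJ_le_pos hW J e)⟩, e⟩⟩
  rw [hf, ← Set.ncard_eq_toFinset_card, ← Nat.card_coe_set_eq]
  rw [← Nat.cast_pow, ← Nat.cast_pow, ← Nat.cast_mul]
  exact congrArg Nat.cast (oppStab_data hW h ht).1

omit h [Fact p.Prime] [CharP F p] in
open scoped Classical in
/-- Summing fixed points over the elements of `p`-power order. -/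
theorem sum_fixCount {J K : Finset (Fin D.rank)} (hKJ : K ⊆ J) :
    ∑ u ∈ (Set.toFinite (pelSet hW p F J)).toFinset, fixCount hW J K u =
      Nat.card (pjCosets hW F J K) * Nat.card (pelSet hW p F K) := by
  classical
  simp only [fixCount]
  rw [← Finset.sum_coe_sort, ← Nat.card_sigma, ← Nat.card_prod]
  refine Nat.card_congr ?_
  have hrep : ∀ x : pjCosets hW F J K, ∃ g ∈ PJ hW F J, (g : GL D.Idx F ⧸ PJ hW F K) = x.1 :=
    fun x => x.2
  choose g hg hgx using hrep
  have hfix : ∀ (x : pjCosets hW F J K) (u : GL D.Idx F),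
      u • x.1 = x.1 ↔ (g x)⁻¹ * u * g x ∈ PJ hW F K := by
    intro x u
    rw [← hgx x]
    show ((u * g x : GL D.Idx F) : GL D.Idx F ⧸ PJ hW F K) = g x ↔ _
    rw [QuotientGroup.eq, ← inv_mem_iff,
      show ((u * g x)⁻¹ * g x)⁻¹ = (g x)⁻¹ * u * g x by group]
  refine
    { toFun := fun z => (⟨z.2.1, z.2.2.1⟩,
        ⟨(g ⟨z.2.1, z.2.2.1⟩)⁻¹ * z.1.1 * g ⟨z.2.1, z.2.2.1⟩,
          (hfix ⟨z.2.1, z.2.2.1⟩ z.1.1).1 z.2.2.2, by
            simpa using PEl.conj (g ⟨z.2.1, z.2.2.1⟩)⁻¹ ((Set.Finite.mem_toFinset _).1 z.1.2).2⟩)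
      invFun := fun z => ⟨⟨g z.1 * z.2.1 * (g z.1)⁻¹, (Set.Finite.mem_toFinset _).2
          ⟨mul_mem (mul_mem (hg z.1) (PJ_mono hW hKJ z.2.2.1)) (inv_mem (hg z.1)),
            PEl.conj _ z.2.2.2⟩⟩, z.1.1, z.1.2,
          (hfix z.1 _).2 (by
            have := z.2.2.1
            rwa [show (g z.1)⁻¹ * (g z.1 * z.2.1 * (g z.1)⁻¹) * g z.1 = z.2.1 by group])⟩
      left_inv := ?_
      right_inv := ?_ }
  · rintro ⟨⟨u, hu⟩, x, hx, hux⟩
    refine Sigma.subtype_ext (Subtype.ext ?_) rfl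
    show g ⟨x, hx⟩ * ((g ⟨x, hx⟩)⁻¹ * u * g ⟨x, hx⟩) * (g ⟨x, hx⟩)⁻¹ = u
    group
  · rintro ⟨⟨x, hx⟩, ⟨v, hv⟩⟩
    refine Prod.ext rfl (Subtype.ext ?_)
    show (g ⟨x, hx⟩)⁻¹ * (g ⟨x, hx⟩ * v * (g ⟨x, hx⟩)⁻¹) * g ⟨x, hx⟩ = v
    group

omit [Fact p.Prime] [CharP F p] in
theorem card_pjCosets [Fintype M.Group] {J K : Finset (Fin D.rank)} (hKJ : K ⊆ J) :
    Nat.card (pjCosets hW F J K) = ∑ w ∈ minSet h J K, Nat.card F ^ ℓ w := by
  classical
  have e1 := ncard_pjCosets_filter (F := F) hW h hKJ (fun _ => True) (fun _ => True)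
    (fun _ _ _ _ => Iff.rfl)
  rw [Nat.card_congr (Equiv.subtypeEquivRight (q := fun x => x ∈ pjCosets hW F J K ∧ True) (fun x => (and_iff_left trivial).symm)), e1]
  refine Finset.sum_congr rfl fun w _ => ?_
  rw [← natCard_cellQ (F := F) hW h w]
  exact Nat.card_congr (Equiv.subtypeEquivRight fun x => and_iff_left trivial)

/-- The number of elements of `p`-power order in `P_J`. -/
theorem card_pelSet (J : Finset (Fin D.rank)) : ∀ t : M.Group, IsTopRep h J t →
    Nat.card (pelSet hW p F J) = Nat.card F ^ (half D + ℓ t) := by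
  classical
  have := h.finite_group
  have := Fintype.ofFinite M.Group
  induction J using Finset.strongInduction with
  | _ J ih =>
    intro t ht
    choose tK htK using fun K => exists_topRep h K
    have h1 := sum_stVal (F := F) hW h p ht
    simp only [stVal] at h1
    rw [Finset.sum_comm] at h1
    have h2 : ∀ K ∈ J.powerset,
        ∑ u ∈ (Set.toFinite (pelSet hW p F J)).toFinset, (-1 : ℤ) ^ K.card * (fixCount hW J K u : ℤ) =
        (-1 : ℤ) ^ K.card * (∑ w ∈ minSet h J K, (Nat.card F : ℤ) ^ ℓ w) *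
          (Nat.card (pelSet hW p F K) : ℤ) := by
      intro K hK
      have e3 := sum_fixCount (F := F) hW p (Finset.mem_powerset.1 hK)
      rw [card_pjCosets hW h (Finset.mem_powerset.1 hK)] at e3
      rw [← Finset.mul_sum, ← Nat.cast_sum, e3]
      push_cast
      ring
    rw [Finset.sum_congr rfl h2] at h1
    have h3 := alt_sum_index h (Nat.card F : ℤ) tK (fun K (_ : K ⊆ J) => htK K)
    have h4 : ∀ K ∈ J.powerset, (-1 : ℤ) ^ K.card *
        (∑ w ∈ minSet h J K, (Nat.card F : ℤ) ^ (ℓ w + ℓ (tK K))) * (Nat.card F : ℤ) ^ half D =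
        (-1 : ℤ) ^ K.card * (∑ w ∈ minSet h J K, (Nat.card F : ℤ) ^ ℓ w) *
          (Nat.card F : ℤ) ^ (half D + ℓ (tK K)) := by
      intro K _
      rw [Finset.mul_sum, Finset.mul_sum, Finset.sum_mul, Finset.sum_mul]
      refine Finset.sum_congr rfl fun w _ => ?_
      rw [pow_add, pow_add]
      ring
    have h5 : ∑ K ∈ J.powerset, (-1 : ℤ) ^ K.card *
        (∑ w ∈ minSet h J K, (Nat.card F : ℤ) ^ ℓ w) *
          (Nat.card F : ℤ) ^ (half D + ℓ (tK K)) = (Nat.card F : ℤ) ^ half D := by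
      rw [← Finset.sum_congr rfl h4, ← Finset.sum_mul, h3, one_mul]
    have h6 := sub_eq_zero.2 (h1.trans h5.symm)
    rw [← Finset.sum_sub_distrib, Finset.sum_eq_single J] at h6
    · rw [← mul_sub, mul_eq_zero, sub_eq_zero] at h6
      rcases h6 with h6 | h6
      · exfalso
        have hpos : 0 < ∑ w ∈ minSet h J J, (Nat.card F : ℤ) ^ ℓ w :=
          Finset.sum_pos (fun w _ => pow_pos (by exact_mod_cast Nat.card_pos) _)
            ⟨1, (mem_minSet h).2 ⟨one_mem _, fun k _ => by simp [h.pos_simpleRoot]⟩⟩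
        rcases mul_eq_zero.1 h6 with e | e
        · exact pow_ne_zero _ (by norm_num) e
        · omega
      · rw [top_unique h ht (htK J)] at h6
        exact_mod_cast h6
    · intro K hK hne
      rw [← mul_sub, mul_eq_zero]
      refine Or.inr (sub_eq_zero.2 ?_)
      exact_mod_cast ih K (lt_of_le_of_ne (Finset.mem_powerset.1 hK) hne) (tK K) (htK K)
    · exact fun e => absurd (Finset.mem_powerset_self J) e

/-- Steinberg's count. -/
theorem card_pel_group :
    Nat.card {g : ↥(D.group F) // ∃ k : ℕ, orderOf g = p ^ k} = Nat.card F ^ (2 * half D) := by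
  obtain ⟨t, ht⟩ := exists_topRep h (Finset.univ : Finset (Fin D.rank))
  have h1 := card_pelSet hW h p Finset.univ t ht (F := F)
  have h2 := radSet_ncard hW h ht
  rw [show radSet (D := D) (Finset.univ : Finset (Fin D.rank)) = ∅ from
    Set.eq_empty_of_forall_notMem fun r hr => hr.2 (fun k hk => absurd (Finset.mem_univ k) hk),
    Set.ncard_empty, zero_add] at h2
  rw [h2, ← two_mul] at h1
  rw [← h1]
  have hmem : ∀ g : ↥(D.group F),
      (∃ k : ℕ, orderOf g = p ^ k) ↔ PEl p (g : GL D.Idx F) := by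
    intro g
    constructor
    · rintro ⟨k, hk⟩
      exact ⟨k, by rw [← hk, ← Subgroup.coe_pow, pow_orderOf_eq_one, Subgroup.coe_one]⟩
    · rintro ⟨k, hk⟩
      obtain ⟨j, -, hj⟩ := (Nat.dvd_prime_pow Fact.out).1
        (orderOf_dvd_of_pow_eq_one (x := g) (n := p ^ k) (Subtype.ext hk))
      exact ⟨j, hj⟩
  have hG : ∀ x : GL D.Idx F, x ∈ PJ hW F Finset.univ ↔ x ∈ D.group F := fun x => by rw [PJ_univ]
  generalize hP : PJ hW F (Finset.univ : Finset (Fin D.rank)) = P at hG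
  have key : Nat.card {g : ↥(D.group F) // ∃ k : ℕ, orderOf g = p ^ k} =
      Nat.card {u : GL D.Idx F // u ∈ P ∧ PEl p u} :=
    Nat.card_eq_of_bijective (fun g => ⟨g.1.1, (hG _).2 g.1.2, (hmem g.1).1 g.2⟩)
      ⟨fun a b e => Subtype.ext (Subtype.ext (congrArg (fun z : {u // u ∈ P ∧ PEl p u} => z.1) e)),
        fun u => ⟨⟨⟨u.1, (hG _).1 u.2.1⟩, (hmem _).2 u.2.2⟩, Subtype.ext rfl⟩⟩
  rw [key, ← hP]
  rfl

end CfsgLib.ChevUnip
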