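import Cfsg.Agent.Weyl.Roots
import Mathlib.Data.Nat.Choose.Sum

/-!
# Parabolic subgroups of a Weyl group acting on the roots

Minimal coset representatives, longest elements and the alternating sums over subsets of the
fundamental reflections, for a certified root action.
-/

set_option autoImplicit false

namespace CfsgLib.ChevUnip

open Cfsg.Lie CfsgLib CfsgLib.Weyl

variable {D : ChevalleyDatum} {C : Weyl.Cert D.rank} {M : CoxeterMatrix (Fin D.rank)}
  {R : Weyl.RootTable}

local notation "ℓ" => CoxeterSystem.length (CoxeterMatrix.toCoxeterSystem M)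

/-- The standard parabolic subgroup of the Coxeter group. -/
def wSub (M : CoxeterMatrix (Fin D.rank)) (J : Finset (Fin D.rank)) : Subgroup M.Group :=
  Subgroup.closure (M.simple '' (J : Set (Fin D.rank)))

/-- The roots supported on `J`. -/
def SuppJ (J : Finset (Fin D.rank)) (r : Fin D.nroots) : Prop :=
  ∀ k : Fin D.rank, k ∉ J → corootAt D r k = 0

/-- `w` keeps the fundamental roots in `K` positive. -/
def IsMinRep (h : RootGood C M R) (K : Finset (Fin D.rank)) (w : M.Group) : Prop :=
  ∀ k ∈ K, PosIdx (h.rootPerm w (h.simpleRoot k))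

/-- The longest element of a standard parabolic subgroup. -/
def IsTopRep (h : RootGood C M R) (J : Finset (Fin D.rank)) (w : M.Group) : Prop :=
  w ∈ wSub M J ∧ ∀ j ∈ J, ¬ PosIdx (h.rootPerm w (h.simpleRoot j))

theorem simple_mem_wSub {J : Finset (Fin D.rank)} {j : Fin D.rank} (hj : j ∈ J) :
    M.simple j ∈ wSub M J :=
  Subgroup.subset_closure ⟨j, hj, rfl⟩

theorem wSub_mono {J K : Finset (Fin D.rank)} (hJK : K ⊆ J) : wSub M K ≤ wSub M J :=
  Subgroup.closure_mono (Set.image_mono (Finset.coe_subset.2 hJK))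

theorem simple_mul_self (j : Fin D.rank) : M.simple j * M.simple j = 1 :=
  M.toCoxeterSystem.simple_mul_simple_self j

theorem mul_simple_mul_simple (w : M.Group) (j : Fin D.rank) :
    w * M.simple j * M.simple j = w := by
  rw [mul_assoc, simple_mul_self, mul_one]

/-- Induction over a parabolic subgroup by right multiplication. -/
theorem wSub_induction {J : Finset (Fin D.rank)} {P : M.Group → Prop} (h1 : P 1)
    (hs : ∀ w ∈ wSub M J, P w → ∀ j ∈ J, P (w * M.simple j)) {w : M.Group} (hw : w ∈ wSub M J) :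
    P w := by
  induction hw using Subgroup.closure_induction_right with
  | one => exact h1
  | mul_right x hx y hy ih =>
    obtain ⟨j, hj, rfl⟩ := hy
    exact hs x hx ih j hj
  | mul_inv_cancel x hx y hy ih =>
    obtain ⟨j, hj, rfl⟩ := hy
    rw [inv_eq_of_mul_eq_one_right (simple_mul_self j)]
    exact hs x hx ih j hj

variable (h : RootGood C M R)
include h

theorem corootAt_simpleRoot (j k : Fin D.rank) :
    corootAt D (h.simpleRoot j) k = if k = j then 1 else 0 :=
  (h.simple_facts j).2.2.1 k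

theorem suppJ_simpleRoot {J : Finset (Fin D.rank)} {j : Fin D.rank} (hj : j ∈ J) :
    SuppJ J (h.simpleRoot j) := by
  intro k hk
  rw [corootAt_simpleRoot h, if_neg]
  rintro rfl
  exact hk hj

theorem mem_of_suppJ_simpleRoot {J : Finset (Fin D.rank)} {j : Fin D.rank}
    (hj : SuppJ J (h.simpleRoot j)) : j ∈ J := by
  by_contra hn
  have := hj j hn
  rw [corootAt_simpleRoot h, if_pos rfl] at this
  exact one_ne_zero this

theorem rep_single_of_mem_wSub {J : Finset (Fin D.rank)} {k : Fin D.rank} (hk : k ∉ J)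
    {y : M.Group} (hy : y ∈ wSub M J) : h.good.rep y (Pi.single k 1) = Pi.single k 1 := by
  refine wSub_induction (P := fun y => h.good.rep y (Pi.single k 1) = Pi.single k 1) (by simp)
    (fun w _ ih j hj => ?_) hy
  show h.good.rep (w * M.simple j) _ = _
  rw [map_mul, Module.End.mul_apply, h.good.rep_simple]
  have : C.refl j (Pi.single k 1) = Pi.single k 1 := by
    show C.reflFun j _ = _
    funext l
    have hjk : j ≠ k := fun e => hk (e ▸ hj)
    simp [Cert.reflFun, Pi.single_eq_of_ne hjk]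
  rw [this, ih]

theorem corootAt_apply {J : Finset (Fin D.rank)} {k : Fin D.rank} (hk : k ∉ J) {y : M.Group}
    (hy : y ∈ wSub M J) (r : Fin D.nroots) :
    corootAt D (h.rootPerm y r) k = corootAt D r k := by
  rw [← RootGood.pair_simple_coroot (h.rootPerm y r) k, ← RootGood.pair_simple_coroot r k]
  conv_lhs => rw [← rep_single_of_mem_wSub h hk hy]
  rw [h.pair_rep]

theorem suppJ_apply_iff {J : Finset (Fin D.rank)} {y : M.Group} (hy : y ∈ wSub M J)
    (r : Fin D.nroots) : SuppJ J (h.rootPerm y r) ↔ SuppJ J r :=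
  forall₂_congr fun _ hk => by rw [corootAt_apply h hk hy]

theorem corootAt_nonneg {r : Fin D.nroots} (hr : PosIdx r) (k : Fin D.rank) :
    0 ≤ corootAt D r k :=
  (h.root_facts r.2).2.2.2.2.2.1 k hr

theorem corootAt_negRoot (r : Fin D.nroots) (k : Fin D.rank) :
    corootAt D (h.negRoot r) k = -corootAt D r k := by
  rw [← RootGood.pair_simple_coroot (h.negRoot r) k, h.pair_neg, RootGood.pair_simple_coroot]

theorem suppJ_negRoot_iff {J : Finset (Fin D.rank)} (r : Fin D.nroots) :
    SuppJ J (h.negRoot r) ↔ SuppJ J r :=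
  forall₂_congr fun k _ => by rw [corootAt_negRoot h, neg_eq_zero]

theorem corootAt_nonpos {r : Fin D.nroots} (hr : ¬ PosIdx r) (k : Fin D.rank) :
    corootAt D r k ≤ 0 := by
  have := corootAt_nonneg h ((h.pos_negRoot r).2 hr) k
  rw [corootAt_negRoot h] at this
  omega

/-- A root outside `J` keeps its sign. -/
theorem pos_apply_iff {J : Finset (Fin D.rank)} {y : M.Group} (hy : y ∈ wSub M J)
    {r : Fin D.nroots} (hr : ¬ SuppJ J r) : PosIdx (h.rootPerm y r) ↔ PosIdx r := by
  simp only [SuppJ, not_forall] at hr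
  obtain ⟨k, hk, hne⟩ := hr
  have e := corootAt_apply h hk hy r
  constructor <;> intro hp <;> by_contra hn
  · have := corootAt_nonneg h hp k
    have := corootAt_nonpos h hn k
    omega
  · have := corootAt_nonneg h hp k
    have := corootAt_nonpos h hn k
    omega

/-- Roots negated inside `J` lie in `J`. -/
theorem suppJ_of_inv {J : Finset (Fin D.rank)} {y : M.Group} (hy : y ∈ wSub M J)
    {r : Fin D.nroots} (hr : PosIdx r) (hyr : ¬ PosIdx (h.rootPerm y r)) : SuppJ J r := by
  by_contra hn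
  exact hyr ((pos_apply_iff h hy hn).2 hr)

theorem mem_of_suppJ {J : Finset (Fin D.rank)} {r : Fin D.nroots} (hr : SuppJ J r)
    {k : Fin D.rank} (hk : corootAt D r k ≠ 0) : k ∈ J := by
  by_contra hn
  exact hk (hr k hn)

theorem pos_of_isMinRep {K : Finset (Fin D.rank)} {w : M.Group} (hw : IsMinRep h K w)
    {r : Fin D.nroots} (hr : PosIdx r) (hs : SuppJ K r) : PosIdx (h.rootPerm w r) :=
  h.pos_of_pos_on_simples hr fun _ hk => hw _ (mem_of_suppJ h hs hk)

theorem not_pos_of_neg {K : Finset (Fin D.rank)} {w : M.Group}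
    (hw : ∀ k ∈ K, ¬ PosIdx (h.rootPerm w (h.simpleRoot k))) {r : Fin D.nroots} (hr : PosIdx r)
    (hs : SuppJ K r) : ¬ PosIdx (h.rootPerm w r) := by
  intro hp
  have hneg : 0 < corootHt D (h.rootPerm w r) := hp
  rw [← RootGood.pair_one, h.pair_symm] at hneg
  refine absurd hneg (not_lt.mpr (Finset.sum_nonpos fun k _ => ?_))
  rcases eq_or_ne (corootAt D r k) 0 with he | he
  · simp [he]
  · refine mul_nonpos_of_nonpos_of_nonneg ?_ (corootAt_nonneg h hr k)
    rw [← h.pair_simple (h.good.rep w⁻¹ 1) k, ← h.pair_symm, RootGood.pair_one]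
    exact not_lt.mp (hw k (mem_of_suppJ h hs he))

theorem len_mul_simple (w : M.Group) (k : Fin D.rank) :
    ℓ (w * M.simple k) = ℓ w + 1 ∧ PosIdx (h.rootPerm w (h.simpleRoot k)) ∨
      ℓ (w * M.simple k) + 1 = ℓ w ∧ ¬ PosIdx (h.rootPerm w (h.simpleRoot k)) := by
  have h1 := M.toCoxeterSystem.length_mul_simple w k
  rw [CoxeterMatrix.toCoxeterSystem_simple] at h1
  have h2 := h.length_mul_simple_lt_iff w k
  by_cases hp : PosIdx (h.rootPerm w (h.simpleRoot k))
  · exact Or.inl ⟨by simp [hp] at h2; omega, hp⟩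
  · exact Or.inr ⟨by simp [hp] at h2; omega, hp⟩

/-- A non-trivial element of a parabolic subgroup has a descent there. -/
theorem exists_descent {K : Finset (Fin D.rank)} {y : M.Group} (hy : y ∈ wSub M K) (hy1 : y ≠ 1) :
    ∃ i ∈ K, ¬ PosIdx (h.rootPerm y (h.simpleRoot i)) := by
  obtain ⟨i, hi⟩ : ∃ i, ¬ PosIdx (h.rootPerm y (h.simpleRoot i)) :=
    not_forall.mp fun hall => hy1 (h.eq_one_of_invSet_empty (h.invSet_eq_empty hall))
  exact ⟨i, mem_of_suppJ_simpleRoot h (suppJ_of_inv h hy (h.pos_simpleRoot i) hi), hi⟩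

theorem eq_one_of_isMinRep {K : Finset (Fin D.rank)} {v y : M.Group} (hv : IsMinRep h K v)
    (hy : y ∈ wSub M K) (hvy : IsMinRep h K (v * y)) : y = 1 := by
  by_contra hy1
  obtain ⟨i, hiK, hi⟩ := exists_descent h hy hy1
  have hs : SuppJ K (h.negRoot (h.rootPerm y (h.simpleRoot i))) := by
    rw [suppJ_negRoot_iff h, suppJ_apply_iff h hy]
    exact suppJ_simpleRoot h hiK
  have h1 := pos_of_isMinRep h hv ((h.pos_negRoot _).2 hi) hs
  rw [h.rootPerm_neg, h.pos_negRoot] at h1
  have h2 := hvy i hiK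
  rw [map_mul, Equiv.Perm.mul_apply] at h2
  exact h1 h2

theorem exists_minRep (K : Finset (Fin D.rank)) (w : M.Group) :
    ∃ v y, y ∈ wSub M K ∧ IsMinRep h K v ∧ w = v * y ∧ ℓ w = ℓ v + ℓ y := by
  induction hn : ℓ w using Nat.strong_induction_on generalizing w with
  | _ n ih =>
    by_cases hw : IsMinRep h K w
    · exact ⟨w, 1, one_mem _, hw, (mul_one w).symm, by simp [hn]⟩
    · simp only [IsMinRep, not_forall] at hw
      obtain ⟨k, hk, hneg⟩ := hw
      have hl : ℓ (w * M.simple k) + 1 = ℓ w :=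
        (len_mul_simple h w k).elim (fun e => absurd e.2 hneg) And.left
      obtain ⟨v, y, hy, hv, e, el⟩ := ih _ (by omega) (w * M.simple k) rfl
      refine ⟨v, y * M.simple k, mul_mem hy (simple_mem_wSub hk), hv, ?_, ?_⟩
      · rw [← mul_assoc, ← e, mul_simple_mul_simple]
      · have h2 : ℓ (y * M.simple k) ≤ ℓ y + 1 := by
          rcases len_mul_simple h y k with e' | e' <;> omega
        have h3 : ℓ w ≤ ℓ v + ℓ (y * M.simple k) := by
          conv_lhs => rw [← mul_simple_mul_simple w k, e, mul_assoc]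
          exact M.toCoxeterSystem.length_mul_le _ _
        omega

/-- Lengths add over a minimal representative. -/
theorem length_minRep_mul {K : Finset (Fin D.rank)} {v y : M.Group} (hv : IsMinRep h K v)
    (hy : y ∈ wSub M K) : ℓ (v * y) = ℓ v + ℓ y := by
  obtain ⟨v', y', hy', hv', e, el⟩ := exists_minRep h K (v * y)
  have hv'e : v' = v * (y * y'⁻¹) := by rw [← mul_assoc, e, mul_inv_cancel_right]
  have h1 := eq_one_of_isMinRep h hv (mul_mem hy (inv_mem hy')) (hv'e ▸ hv')
  rw [mul_inv_eq_one] at h1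
  subst h1
  rw [mul_right_cancel e] at *
  exact el

theorem eq_one_iff_isMinRep_self {J : Finset (Fin D.rank)} {w : M.Group} (hw : w ∈ wSub M J) :
    IsMinRep h J w ↔ w = 1 := by
  constructor
  · intro hm
    by_contra h1
    obtain ⟨i, hi, hn⟩ := exists_descent h hw h1
    exact hn (hm i hi)
  · rintro rfl j -
    simp [h.pos_simpleRoot]

/-! ### The longest element -/

theorem exists_topRep (J : Finset (Fin D.rank)) : ∃ t, IsTopRep h J t := by
  have := h.finite_group
  obtain ⟨⟨t, ht⟩, hmax⟩ := Finite.exists_max fun w : wSub M J => ℓ (w : M.Group)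
  refine ⟨t, ht, fun j hj hp => ?_⟩
  have h1 := hmax ⟨t * M.simple j, mul_mem ht (simple_mem_wSub hj)⟩
  simp only at h1
  rcases len_mul_simple h t j with e | e
  · omega
  · exact e.2 hp

variable {J : Finset (Fin D.rank)} {t : M.Group}

theorem mem_invSet_top (ht : IsTopRep h J t) {r : Fin D.nroots} :
    r ∈ h.invSet t ↔ PosIdx r ∧ SuppJ J r := by
  rw [h.mem_invSet]
  exact ⟨fun e => ⟨e.1, suppJ_of_inv h ht.1 e.1 e.2⟩,
    fun e => ⟨e.1, not_pos_of_neg h ht.2 e.1 e.2⟩⟩

theorem length_le_top (ht : IsTopRep h J t) {w : M.Group} (hw : w ∈ wSub M J) : ℓ w ≤ ℓ t := by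
  rw [h.length_eq_card_invSet, h.length_eq_card_invSet]
  refine Finset.card_le_card fun r hr => (mem_invSet_top h ht).2 ?_
  rw [h.mem_invSet] at hr
  exact ⟨hr.1, suppJ_of_inv h hw hr.1 hr.2⟩

theorem top_mul_top (ht : IsTopRep h J t) {t' : M.Group} (ht' : IsTopRep h J t') : t' * t = 1 := by
  refine h.eq_one_of_invSet_empty (Finset.eq_empty_of_forall_notMem fun r hr => ?_)
  rw [h.mem_invSet, map_mul, Equiv.Perm.mul_apply] at hr
  obtain ⟨hp, hn⟩ := hr
  by_cases hs : SuppJ J r
  · have h1 := not_pos_of_neg h ht.2 hp hs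
    have h2 := not_pos_of_neg h ht'.2 ((h.pos_negRoot _).2 h1)
      ((suppJ_negRoot_iff h _).2 ((suppJ_apply_iff h ht.1 r).2 hs))
    rw [h.rootPerm_neg, h.pos_negRoot, not_not] at h2
    exact hn h2
  · have h1 := (pos_apply_iff h ht.1 hs).2 hp
    exact hn ((pos_apply_iff h ht'.1 fun e => hs ((suppJ_apply_iff h ht.1 r).1 e)).2 h1)

theorem top_unique (ht : IsTopRep h J t) {t' : M.Group} (ht' : IsTopRep h J t') : t' = t :=
  mul_right_cancel ((top_mul_top h ht ht').trans (top_mul_top h ht ht).symm)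

theorem top_inv (ht : IsTopRep h J t) : t⁻¹ = t :=
  inv_eq_of_mul_eq_one_right (top_mul_top h ht ht)

theorem top_top_apply (ht : IsTopRep h J t) (r : Fin D.nroots) :
    h.rootPerm t (h.rootPerm t r) = r := by
  rw [← Equiv.Perm.mul_apply, ← map_mul, top_mul_top h ht ht, map_one, Equiv.Perm.one_apply]

theorem top_univ_length (ht : IsTopRep h Finset.univ t) :
    ℓ t = (Finset.univ.filter fun r : Fin D.nroots => PosIdx r).card := by
  rw [h.length_eq_card_invSet]
  congr 1
  ext r
  simp [mem_invSet_top h ht, SuppJ]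

/-- `t s_j t` is again a fundamental reflection of `J`. -/
theorem exists_top_conj (ht : IsTopRep h J t) {j : Fin D.rank} (hj : j ∈ J) :
    ∃ i ∈ J, t * M.simple j * t = M.simple i ∧
      h.rootPerm t (h.simpleRoot j) = h.negRoot (h.simpleRoot i) := by
  set r₀ := h.negRoot (h.rootPerm t (h.simpleRoot j)) with hr₀
  have hw : t * M.simple j * t ∈ wSub M J :=
    mul_mem (mul_mem ht.1 (simple_mem_wSub hj)) ht.1
  have hinv : h.invSet (t * M.simple j * t) = {r₀} := by
    ext r
    rw [h.mem_invSet, Finset.mem_singleton, map_mul, map_mul, Equiv.Perm.mul_apply,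
      Equiv.Perm.mul_apply]
    constructor
    · rintro ⟨hp, hn⟩
      have hs : SuppJ J r :=
        suppJ_of_inv h hw hp (by rw [map_mul, map_mul]; exact hn)
      have h1 := not_pos_of_neg h ht.2 hp hs
      by_contra hne
      set r' := h.negRoot (h.rootPerm t r) with hr'
      have hs' : SuppJ J r' := (suppJ_negRoot_iff h _).2 ((suppJ_apply_iff h ht.1 r).2 hs)
      have hne' : r' ≠ h.simpleRoot j := by
        intro e
        apply hne
        rw [hr₀, ← e, hr', h.rootPerm_neg, top_top_apply h ht, h.negRoot_negRoot]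
      have h2 := h.pos_simple_apply hne' ((h.pos_negRoot _).2 h1)
      have h3 := not_pos_of_neg h ht.2 h2 ((suppJ_apply_iff h (simple_mem_wSub hj) _).2 hs')
      rw [hr', h.rootPerm_neg, h.rootPerm_neg, h.pos_negRoot, not_not] at h3
      exact hn h3
    · rintro rfl
      refine ⟨(h.pos_negRoot _).2 (ht.2 j hj), ?_⟩
      rw [hr₀, h.rootPerm_neg, top_top_apply h ht, h.rootPerm_neg,
        h.rootPerm_simple_simpleRoot, h.negRoot_negRoot]
      exact ht.2 j hj
  have hl : ℓ (t * M.simple j * t) = 1 := by rw [h.length_eq_card_invSet, hinv]; simp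
  obtain ⟨i, hi⟩ := (M.toCoxeterSystem.length_eq_one_iff).1 hl
  rw [CoxeterMatrix.toCoxeterSystem_simple] at hi
  have hri : h.simpleRoot i = r₀ := by
    have : h.simpleRoot i ∈ h.invSet (t * M.simple j * t) := by
      rw [hi, h.mem_invSet, h.rootPerm_simple_simpleRoot, h.pos_negRoot]
      exact ⟨h.pos_simpleRoot i, not_not.2 (h.pos_simpleRoot i)⟩
    rw [hinv] at this
    exact Finset.mem_singleton.1 this
  refine ⟨i, mem_of_suppJ_simpleRoot h ?_, hi, by rw [hri, h.negRoot_negRoot]⟩
  rw [hri, suppJ_negRoot_iff h, suppJ_apply_iff h ht.1]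
  exact suppJ_simpleRoot h hj

/-! ### Alternating sums -/

open scoped Classical in
/-- The minimal representatives of `W_J / W_K`. -/
noncomputable def minSet [Fintype M.Group] (_h : RootGood C M R) (J K : Finset (Fin D.rank)) :
    Finset M.Group :=
  Finset.univ.filter fun w => w ∈ wSub M J ∧ IsMinRep _h K w

theorem mem_minSet [Fintype M.Group] {K : Finset (Fin D.rank)} {w : M.Group} :
    w ∈ minSet h J K ↔ w ∈ wSub M J ∧ IsMinRep h K w := by
  simp [minSet]

omit h in
theorem sum_powerset_neg_one {S : Type*} [CommRing S] (A : Finset (Fin D.rank)) :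
    ∑ K ∈ A.powerset, (-1 : S) ^ K.card = if A = ∅ then 1 else 0 := by
  have h0 := congrArg (Int.cast : ℤ → S) (Finset.sum_powerset_neg_one_pow_card (x := A))
  push_cast at h0
  exact h0

open scoped Classical in
/-- Only the longest element survives the alternating sum over minimal representatives. -/
theorem alt_sum_minSet [Fintype M.Group] {S : Type*} [CommRing S] (ht : IsTopRep h J t)
    (f : M.Group → S) :
    ∑ K ∈ J.powerset, (-1 : S) ^ K.card * ∑ w ∈ minSet h J K, f w = f t := by
  have hswap : ∀ K ∈ J.powerset, (-1 : S) ^ K.card * ∑ w ∈ minSet h J K, f w =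
      ∑ w : M.Group, if w ∈ wSub M J ∧ IsMinRep h K w then (-1 : S) ^ K.card * f w else 0 := by
    intro K _
    rw [Finset.mul_sum, minSet, Finset.sum_filter]
  rw [Finset.sum_congr rfl hswap, Finset.sum_comm, Finset.sum_eq_single t]
  · rw [Finset.sum_eq_single ∅]
    · simp [IsMinRep, ht.1]
    · intro K hK hne
      obtain ⟨k, hk⟩ := Finset.nonempty_iff_ne_empty.2 hne
      rw [if_neg]
      exact fun e => ht.2 k (Finset.mem_powerset.1 hK hk) (e.2 k hk)
    · simp
  · intro w _ hwt
    by_cases hw : w ∈ wSub M J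
    · set A := J.filter fun j => PosIdx (h.rootPerm w (h.simpleRoot j)) with hA
      have e : J.powerset.filter (fun K => w ∈ wSub M J ∧ IsMinRep h K w) = A.powerset := by
        ext K
        rw [Finset.mem_filter, Finset.mem_powerset, Finset.mem_powerset, hA]
        simp only [IsMinRep]
        exact ⟨fun hK k hk => Finset.mem_filter.2 ⟨hK.1 hk, hK.2.2 k hk⟩,
          fun hK => ⟨fun k hk => (Finset.mem_filter.1 (hK hk)).1, hw,
            fun k hk => (Finset.mem_filter.1 (hK hk)).2⟩⟩
      rw [← Finset.sum_filter, e, ← Finset.sum_mul, sum_powerset_neg_one, if_neg, zero_mul]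
      intro hemp
      refine hwt (top_unique h ht ⟨hw, fun j hj hp => ?_⟩)
      exact Finset.notMem_empty j (hemp ▸ Finset.mem_filter.2 ⟨hj, hp⟩)
    · exact Finset.sum_eq_zero fun K _ => if_neg fun e => hw e.1
  · simp

open scoped Classical in
/-- The alternating sum of the weighted indices. -/
theorem alt_sum_index [Fintype M.Group] {S : Type*} [CommRing S] (x : S)
    (tK : Finset (Fin D.rank) → M.Group) (htK : ∀ K, K ⊆ J → IsTopRep h K (tK K)) :
    ∑ K ∈ J.powerset, (-1 : S) ^ K.card * ∑ w ∈ minSet h J K, x ^ (ℓ w + ℓ (tK K)) = 1 := by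
  have hswap : ∀ K ∈ J.powerset,
      (-1 : S) ^ K.card * ∑ w ∈ minSet h J K, x ^ (ℓ w + ℓ (tK K)) =
      ∑ u : M.Group, if u ∈ wSub M J ∧ ∀ k ∈ K, ¬ PosIdx (h.rootPerm u (h.simpleRoot k))
        then (-1 : S) ^ K.card * x ^ ℓ u else 0 := by
    intro K hK
    rw [Finset.mem_powerset] at hK
    have hT := htK K hK
    rw [Finset.mul_sum, ← Finset.sum_filter]
    refine Finset.sum_bij' (fun w _ => w * tK K) (fun u _ => u * tK K) ?_ ?_ ?_ ?_ ?_
    · intro w hw
      rw [mem_minSet] at hw
      refine Finset.mem_filter.2 ⟨Finset.mem_univ _, mul_mem hw.1 (wSub_mono hK hT.1),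
        fun k hk => ?_⟩
      have h1 := pos_of_isMinRep h hw.2 ((h.pos_negRoot _).2 (hT.2 k hk))
        ((suppJ_negRoot_iff h _).2 ((suppJ_apply_iff h hT.1 _).2 (suppJ_simpleRoot h hk)))
      rw [h.rootPerm_neg, h.pos_negRoot] at h1
      rwa [map_mul, Equiv.Perm.mul_apply]
    · intro u hu
      obtain ⟨-, hu1, hu2⟩ := Finset.mem_filter.1 hu
      refine (mem_minSet h).2 ⟨mul_mem hu1 (wSub_mono hK hT.1), fun k hk => ?_⟩
      have h1 := not_pos_of_neg h hu2 ((h.pos_negRoot _).2 (hT.2 k hk))
        ((suppJ_negRoot_iff h _).2 ((suppJ_apply_iff h hT.1 _).2 (suppJ_simpleRoot h hk)))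
      rw [h.rootPerm_neg, h.pos_negRoot, not_not] at h1
      rwa [map_mul, Equiv.Perm.mul_apply]
    · intro w _; rw [mul_assoc, top_mul_top h hT hT, mul_one]
    · intro u _; rw [mul_assoc, top_mul_top h hT hT, mul_one]
    · intro w hw
      rw [mem_minSet] at hw
      rw [length_minRep_mul h hw.2 hT.1]
  rw [Finset.sum_congr rfl hswap, Finset.sum_comm, Finset.sum_eq_single 1]
  · rw [Finset.sum_eq_single ∅]
    · simp
    · intro K hK hne
      obtain ⟨k, hk⟩ := Finset.nonempty_iff_ne_empty.2 hne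
      rw [if_neg]
      exact fun e => e.2 k hk (by simp [h.pos_simpleRoot])
    · simp
  · intro w _ hw1
    by_cases hw : w ∈ wSub M J
    · set A := J.filter fun j => ¬ PosIdx (h.rootPerm w (h.simpleRoot j)) with hA
      have e : J.powerset.filter (fun K => w ∈ wSub M J ∧
          ∀ k ∈ K, ¬ PosIdx (h.rootPerm w (h.simpleRoot k))) = A.powerset := by
        ext K
        rw [Finset.mem_filter, Finset.mem_powerset, Finset.mem_powerset, hA]
        exact ⟨fun hK k hk => Finset.mem_filter.2 ⟨hK.1 hk, hK.2.2 k hk⟩,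
          fun hK => ⟨fun k hk => (Finset.mem_filter.1 (hK hk)).1, hw,
            fun k hk => (Finset.mem_filter.1 (hK hk)).2⟩⟩
      rw [← Finset.sum_filter, e, ← Finset.sum_mul, sum_powerset_neg_one, if_neg, zero_mul]
      intro hemp
      obtain ⟨i, hi, hn⟩ := exists_descent h hw hw1
      exact Finset.notMem_empty i (hemp ▸ Finset.mem_filter.2 ⟨hi, hn⟩)
    · exact Finset.sum_eq_zero fun K _ => if_neg fun e => hw e.1
  · simp

end CfsgLib.ChevUnip
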