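import Cfsg.Agent.Chevalley.Bruhat
import Cfsg.Agent.ChevUnip.WeylJ

/-!
# Standard parabolic subgroups as unions of cells

`P_J` is the union of the cells over `W_J`, and the cosets of `P_K` in `P_J` correspond to the
cosets of `B` in the cells of the minimal representatives.
-/

set_option autoImplicit false

namespace CfsgLib.ChevUnip

open Cfsg.Lie CfsgLib CfsgLib.Chevalley
open scoped MatrixGroups

variable {D : ChevalleyDatum} {C : Weyl.Cert D.rank} {M : CoxeterMatrix (Fin D.rank)}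
  {R : Weyl.RootTable} {F : Type*} [Field F]

local notation "ℓ" => CoxeterSystem.length (CoxeterMatrix.toCoxeterSystem M)

/-- The standard parabolic subgroup. -/
def PJ (hW : GoodWeyl D) (F : Type*) [Field F] (J : Finset (Fin D.rank)) :
    Subgroup (GL D.Idx F) :=
  D.borelSubgroup F ⊔
    Subgroup.closure ((nR hW : Fin D.rank → GL D.Idx F) '' (J : Set (Fin D.rank)))

theorem borel_le_PJ (hW : GoodWeyl D) (J : Finset (Fin D.rank)) :
    D.borelSubgroup F ≤ PJ hW F J :=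
  le_sup_left

theorem nR_mem_PJ (hW : GoodWeyl D) {J : Finset (Fin D.rank)} {j : Fin D.rank} (hj : j ∈ J) :
    (nR hW j : GL D.Idx F) ∈ PJ hW F J :=
  Subgroup.mem_sup_right (Subgroup.subset_closure ⟨j, hj, rfl⟩)

theorem PJ_mono (hW : GoodWeyl D) {J K : Finset (Fin D.rank)} (hKJ : K ⊆ J) :
    PJ hW F K ≤ PJ hW F J :=
  sup_le_sup_left (Subgroup.closure_mono (Set.image_mono (Finset.coe_subset.2 hKJ))) _

theorem PJ_univ (hW : GoodWeyl D) : PJ hW F Finset.univ = D.group F := by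
  rw [PJ, Finset.coe_univ, Set.image_univ, group_eq_borel_sup hW]

theorem PJ_le_group (hW : GoodWeyl D) (J : Finset (Fin D.rank)) : PJ hW F J ≤ D.group F :=
  PJ_univ (F := F) hW ▸ PJ_mono hW (Finset.subset_univ J)

variable (hW : GoodWeyl D) (h : Weyl.RootGood C M R)

theorem nW_mem_PJ {J : Finset (Fin D.rank)} {w : M.Group} (hw : w ∈ wSub M J) :
    nW hW h F w ∈ PJ hW F J := by
  refine wSub_induction (P := fun w => nW hW h F w ∈ PJ hW F J) ?_ (fun w _ ih j hj => ?_) hw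
  · have := nW_mem_cell (F := F) hW h 1
    rw [cell_one hW h] at this
    exact borel_le_PJ hW J this
  · obtain ⟨k, hk, e⟩ := exists_eq_nW_mul hW h
      ((⟨nW hW h F w, nW_mem hW h w⟩ : ↥(D.monomialSubgroup F)) *
        ⟨nR hW j, nR_mem_monomial hW j⟩)
    rw [map_mul, weylHom_nW, weylHom_nR] at e
    have e' : nW hW h F (w * M.simple j) = nW hW h F w * nR hW j * k⁻¹ :=
      eq_mul_inv_of_mul_eq e.symm
    rw [e']
    exact mul_mem (mul_mem ih (nR_mem_PJ hW hj)) (inv_mem (borel_le_PJ hW J (diag_le_borel D hk)))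

theorem cell_subset_PJ {J : Finset (Fin D.rank)} {w : M.Group} (hw : w ∈ wSub M J)
    {g : GL D.Idx F} (hg : g ∈ cell hW h F w) : g ∈ PJ hW F J := by
  obtain ⟨b, hb, b', hb', rfl⟩ := hg
  exact mul_mem (mul_mem (borel_le_PJ hW J hb) (nW_mem_PJ hW h hw)) (borel_le_PJ hW J hb')

theorem exists_cell_of_mem_PJ {J : Finset (Fin D.rank)} {g : GL D.Idx F} (hg : g ∈ PJ hW F J) :
    ∃ w ∈ wSub M J, g ∈ cell hW h F w := by
  rw [PJ, ← Subgroup.closure_eq (D.borelSubgroup F), ← Subgroup.closure_union] at hg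
  induction hg using Subgroup.closure_induction_left with
  | one => exact ⟨1, one_mem _, by rw [cell_one hW h]; exact one_mem _⟩
  | mul_left x hx y _ ih =>
    obtain ⟨w, hw, hy⟩ := ih
    rcases hx with hx | ⟨i, hi, rfl⟩
    · exact ⟨w, hw, borel_mul_mem_cell hW h hx hy⟩
    · rcases nR_mul_cell hW h i hy with h1 | h1
      exacts [⟨_, mul_mem (simple_mem_wSub hi) hw, h1⟩, ⟨w, hw, h1⟩]
  | inv_mul_cancel x hx y _ ih =>
    obtain ⟨w, hw, hy⟩ := ih
    rcases hx with hx | ⟨i, hi, rfl⟩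
    · exact ⟨w, hw, borel_mul_mem_cell hW h (inv_mem hx) hy⟩
    · rcases nR_inv_mul_cell hW h i hy with h1 | h1
      exacts [⟨_, mul_mem (simple_mem_wSub hi) hw, h1⟩, ⟨w, hw, h1⟩]

theorem mem_PJ_iff {J : Finset (Fin D.rank)} {g : GL D.Idx F} :
    g ∈ PJ hW F J ↔ ∃ w ∈ wSub M J, g ∈ cell hW h F w :=
  ⟨exists_cell_of_mem_PJ hW h, fun ⟨_, hw, hg⟩ => cell_subset_PJ hW h hw hg⟩

/-- The product of two cells with adding lengths. -/
theorem mul_mem_cell_of_add {w : M.Group} : ∀ {y : M.Group} {g g' : GL D.Idx F},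
    ℓ (w * y) = ℓ w + ℓ y → g ∈ cell hW h F w → g' ∈ cell hW h F y →
      g * g' ∈ cell hW h F (w * y) := by
  induction hn : ℓ w using Nat.strong_induction_on generalizing w with
  | _ n ih =>
    intro y g g' hl hg hg'
    by_cases hw : w = 1
    · subst hw
      rw [cell_one hW h] at hg
      rw [one_mul]
      exact borel_mul_mem_cell hW h hg hg'
    obtain ⟨i, hi⟩ := M.toCoxeterSystem.exists_leftDescent_of_ne_one hw
    rw [CoxeterSystem.isLeftDescent_iff, CoxeterMatrix.toCoxeterSystem_simple] at hi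
    obtain ⟨v, rfl⟩ : ∃ v, w = M.simple i * v :=
      ⟨M.simple i * w, by rw [← mul_assoc, simple_mul_self, one_mul]⟩
    rw [← mul_assoc, simple_mul_self, one_mul] at hi
    have h1 : ℓ (M.simple i * v * y) ≤ ℓ (v * y) + 1 := by
      have := M.toCoxeterSystem.length_simple_mul (v * y) i
      rw [CoxeterMatrix.toCoxeterSystem_simple] at this
      rw [mul_assoc]
      omega
    have h2 : ℓ (v * y) ≤ ℓ v + ℓ y := M.toCoxeterSystem.length_mul_le v y
    have hlv : ℓ (v * y) = ℓ v + ℓ y := by omega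
    obtain ⟨b, hb, b', hb', rfl⟩ := hg
    obtain ⟨k, hk, e⟩ := exists_nR_mul_nW (F := F) hW h i v
    have e' : nW hW h F (M.simple i * v) = nR hW i * nW hW h F v * k⁻¹ := by
      rw [e, mul_inv_cancel_right]
    have hin : nW hW h F v * k⁻¹ * b' * g' ∈ cell hW h F (v * y) :=
      ih (ℓ v) (by omega) rfl hlv
        (cell_mul_borel_mem hW h (cell_mul_borel_mem hW h (nW_mem_cell hW h v)
          (inv_mem (diag_le_borel D hk))) hb') hg'
    obtain ⟨c, hc, c', hc', ec⟩ := hin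
    have hup : GoesUp hW h i (v * y) := (goesUp_iff hW h i _).2 (by rw [← mul_assoc]; omega)
    have e3 : b * nW hW h F (M.simple i * v) * b' * g' =
        b * (nR hW i * c * nW hW h F (v * y)) * c' := by
      rw [e']
      calc b * (nR hW i * nW hW h F v * k⁻¹) * b' * g'
          = b * nR hW i * (nW hW h F v * k⁻¹ * b' * g') := by group
        _ = _ := by rw [← ec]; group
    rw [e3, mul_assoc (M.simple i)]
    exact cell_mul_borel_mem hW h (borel_mul_mem_cell hW h hb (nR_mul_nW_up hW h hup hc)) hc'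

/-- The projection from the cosets of `B` to those of `P_K`. -/
def projPJ (K : Finset (Fin D.rank)) :
    GL D.Idx F ⧸ D.borelSubgroup F → GL D.Idx F ⧸ PJ hW F K :=
  Subgroup.quotientMapOfLE (borel_le_PJ hW K)

theorem projPJ_mk (K : Finset (Fin D.rank)) (g : GL D.Idx F) :
    projPJ hW K (g : GL D.Idx F ⧸ D.borelSubgroup F) = (g : GL D.Idx F ⧸ PJ hW F K) :=
  rfl

theorem projPJ_smul (K : Finset (Fin D.rank)) (a : GL D.Idx F)
    (x : GL D.Idx F ⧸ D.borelSubgroup F) : projPJ hW K (a • x) = a • projPJ hW K x := by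
  induction x using QuotientGroup.induction_on with
  | _ g => rfl

/-- The cosets of `P_K` inside `P_J`. -/
def pjCosets (F : Type*) [Field F] (J K : Finset (Fin D.rank)) : Set (GL D.Idx F ⧸ PJ hW F K) :=
  QuotientGroup.mk '' (PJ hW F J : Set (GL D.Idx F))

theorem proj_mem_pjCosets {J K : Finset (Fin D.rank)} {w : M.Group} (hw : w ∈ wSub M J)
    {x : GL D.Idx F ⧸ D.borelSubgroup F} (hx : x ∈ cellQ hW h F w) :
    projPJ hW K x ∈ pjCosets hW F J K := by
  obtain ⟨g, hg, rfl⟩ := hx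
  exact ⟨g, cell_subset_PJ hW h hw hg, rfl⟩

/-- Cosets of a cell over a minimal representative stay distinct modulo `P_K`. -/
theorem eq_of_proj_eq {K : Finset (Fin D.rank)} {w w' : M.Group} (hw : IsMinRep h K w)
    (hw' : IsMinRep h K w') {x x' : GL D.Idx F ⧸ D.borelSubgroup F} (hx : x ∈ cellQ hW h F w)
    (hx' : x' ∈ cellQ hW h F w') (e : projPJ hW K x = projPJ hW K x') : w = w' ∧ x = x' := by
  obtain ⟨g, hg, rfl⟩ := hx
  obtain ⟨g', hg', rfl⟩ := hx'
  rw [projPJ_mk, projPJ_mk, QuotientGroup.eq] at e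
  obtain ⟨y, hy, hgy⟩ := exists_cell_of_mem_PJ hW h e
  have h1 := mul_mem_cell_of_add hW h (length_minRep_mul h hw hy) hg hgy
  rw [mul_inv_cancel_left] at h1
  have h2 := cell_eq_of_mem hW h hg' h1
  have hy1 : y = 1 := eq_one_of_isMinRep h hw hy (h2 ▸ hw')
  subst hy1
  rw [mul_one] at h2
  rw [cell_one hW h] at hgy
  exact ⟨h2.symm, QuotientGroup.eq.2 hgy⟩

theorem exists_proj_of_mem {J K : Finset (Fin D.rank)} (hKJ : K ⊆ J)
    {x : GL D.Idx F ⧸ PJ hW F K} (hx : x ∈ pjCosets hW F J K) :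
    ∃ w ∈ wSub M J, IsMinRep h K w ∧ ∃ x' ∈ cellQ hW h F w, projPJ hW K x' = x := by
  obtain ⟨g, hg, rfl⟩ := hx
  obtain ⟨u, hu, hgu⟩ := exists_cell_of_mem_PJ hW h hg
  obtain ⟨v, y, hy, hv, rfl, hl⟩ := exists_minRep h K u
  have hvJ : v ∈ wSub M J := by
    simpa using mul_mem hu (inv_mem (wSub_mono hKJ hy))
  obtain ⟨b, hb, b', hb', rfl⟩ := hgu
  have h1 := mul_mem_cell_of_add (F := F) hW h hl (nW_mem_cell hW h v) (nW_mem_cell hW h y)
  obtain ⟨c, hc, c', hc', ec⟩ := h1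
  have e1 : nW hW h F (v * y) = c⁻¹ * (nW hW h F v * nW hW h F y) * c'⁻¹ := by
    rw [← ec]; group
  refine ⟨v, hvJ, hv, _, ⟨b * c⁻¹ * nW hW h F v,
    borel_mul_mem_cell hW h (mul_mem hb (inv_mem hc)) (nW_mem_cell hW h v), rfl⟩, ?_⟩
  rw [projPJ_mk, QuotientGroup.eq, e1,
    show (b * c⁻¹ * nW hW h F v)⁻¹ * (b * (c⁻¹ * (nW hW h F v * nW hW h F y) * c'⁻¹) * b') =
      nW hW h F y * (c'⁻¹ * b') by group]
  exact mul_mem (nW_mem_PJ hW h hy) (borel_le_PJ hW K (mul_mem (inv_mem hc') hb'))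

open scoped Classical in
/-- The number of cosets of `P_K` in `P_J` satisfying a condition pulled back to the cells. -/
theorem ncard_pjCosets_filter [Finite F] [Fintype M.Group] {J K : Finset (Fin D.rank)} (hKJ : K ⊆ J)
    (p : GL D.Idx F ⧸ PJ hW F K → Prop) (q : GL D.Idx F ⧸ D.borelSubgroup F → Prop)
    (hpq : ∀ w ∈ minSet h J K, ∀ x ∈ cellQ hW h F w, p (projPJ hW K x) ↔ q x) :
    Nat.card {x : GL D.Idx F ⧸ PJ hW F K // x ∈ pjCosets hW F J K ∧ p x} =
      ∑ w ∈ minSet h J K,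
        Nat.card {x : GL D.Idx F ⧸ D.borelSubgroup F // x ∈ cellQ hW h F w ∧ q x} := by
  rw [← Finset.sum_coe_sort, ← Nat.card_sigma]
  refine (Nat.card_eq_of_bijective (fun z =>
    ⟨projPJ hW K z.2.1, proj_mem_pjCosets hW h ((mem_minSet h).1 z.1.2).1 z.2.2.1,
      (hpq _ z.1.2 _ z.2.2.1).2 z.2.2.2⟩) ⟨?_, ?_⟩).symm
  · rintro ⟨⟨w, hw⟩, x, hx, hqx⟩ ⟨⟨w', hw'⟩, x', hx', hqx'⟩ e
    obtain ⟨rfl, rfl⟩ := eq_of_proj_eq hW h ((mem_minSet h).1 hw).2 ((mem_minSet h).1 hw').2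
      hx hx' (congrArg Subtype.val e)
    rfl
  · rintro ⟨x, hx, hpx⟩
    obtain ⟨w, hw, hmin, x', hx', rfl⟩ := exists_proj_of_mem hW h hKJ hx
    have hwm := (mem_minSet h).2 ⟨hw, hmin⟩
    exact ⟨⟨⟨w, hwm⟩, x', hx', (hpq w hwm x' hx').1 hpx⟩, rfl⟩

end CfsgLib.ChevUnip
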