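import Cfsg.Agent.ChevUnip.Parabolic

/-!
# Unipotent radicals of standard parabolic subgroups

The subgroup spanned by the positive roots outside `J` is normal in `P_J`, meets the stabiliser
of an opposite coset exactly in the expected way, and has order `q ^ (N - ℓ(w_J))`.
-/

set_option autoImplicit false

namespace CfsgLib.ChevUnip

open Cfsg.Lie CfsgLib CfsgLib.Chevalley
open scoped MatrixGroups

variable {D : ChevalleyDatum} {C : Weyl.Cert D.rank} {M : CoxeterMatrix (Fin D.rank)}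
  {R : Weyl.RootTable} {F : Type*} [Field F]

local notation "ℓ" => CoxeterSystem.length (CoxeterMatrix.toCoxeterSystem M)

/-- The positive roots outside `J`. -/
def radSet (J : Finset (Fin D.rank)) : Set (Root D) := {r | half D ≤ (r : ℕ) ∧ ¬ SuppJ J r}

/-- The unipotent radical. -/
def QJ (hW : GoodWeyl D) (F : Type*) [Field F] (J : Finset (Fin D.rank)) :
    Subgroup (GL D.Idx F) :=
  rootGen hW.good F (radSet J)

theorem mem_normalizer_of_conj {G : Type*} [Group G] {Q : Subgroup G} {g : G}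
    (h1 : ∀ u ∈ Q, g * u * g⁻¹ ∈ Q) (h2 : ∀ u ∈ Q, g⁻¹ * u * g ∈ Q) :
    g ∈ Subgroup.normalizer (Q : Set G) :=
  Subgroup.mem_normalizer_iff.2 fun u => ⟨h1 u, fun hu => by
    have := h2 _ hu
    rwa [show g⁻¹ * (g * u * g⁻¹) * g = u by group] at this⟩

variable (hW : GoodWeyl D) (h : Weyl.RootGood C M R)

theorem QJ_le_pos (J : Finset (Fin D.rank)) : QJ hW F J ≤ D.posUnipotent F :=
  posUnipotent_eq_rootGen (F := F) hW.good ▸ rootGen_mono hW.good fun _ hr => hr.1

theorem QJ_le_borel (J : Finset (Fin D.rank)) : QJ hW F J ≤ D.borelSubgroup F :=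
  (QJ_le_pos hW J).trans (pos_le_borel D)

include hW h

theorem negRoot_eq_rev (r : Root D) : h.negRoot r = r.rev :=
  Fin.ext (hW.good.neg_fin r)

theorem suppJ_pRoot {J : Finset (Fin D.rank)} {j : Fin D.rank} (hj : j ∈ J) :
    SuppJ J (pRoot hW j) :=
  simpleRoot_eq hW h j ▸ suppJ_simpleRoot h hj

theorem QJ_le_posCompl {J : Finset (Fin D.rank)} {j : Fin D.rank} (hj : j ∈ J) :
    QJ hW F J ≤ rootGen hW.good F (posCompl hW j) :=
  rootGen_mono hW.good fun r hr =>
    (show half D ≤ (r : ℕ) ∧ r ≠ pRoot hW j from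
      ⟨hr.1, fun e => hr.2 (e ▸ suppJ_pRoot hW h hj)⟩)

theorem conj_mem_QJ {J : Finset (Fin D.rank)} {g : GL D.Idx F} {w : M.Group}
    (hg : MonBy hW g (h.rootPerm w)) (hw : w ∈ wSub M J) {u : GL D.Idx F} (hu : u ∈ QJ hW F J) :
    g * u * g⁻¹ ∈ QJ hW F J := by
  refine hg.conj_rootGen (fun r hr => ?_) hu
  exact (show half D ≤ ((h.rootPerm w r : Root D) : ℕ) ∧ ¬ SuppJ J (h.rootPerm w r) from
    ⟨(posIdx_iff hW.good h _).1 ((pos_apply_iff h hw hr.2).2 ((posIdx_iff hW.good h r).2 hr.1)),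
      fun e => hr.2 ((suppJ_apply_iff h hw r).1 e)⟩)

theorem conj_inv_mem_QJ {J : Finset (Fin D.rank)} {g : GL D.Idx F} {w : M.Group}
    (hg : MonBy hW g (h.rootPerm w)) (hw : w ∈ wSub M J) {u : GL D.Idx F} (hu : u ∈ QJ hW F J) :
    g⁻¹ * u * g ∈ QJ hW F J := by
  have hg' : MonBy hW g⁻¹ (h.rootPerm w⁻¹) := by rw [map_inv]; exact hg.inv
  have := conj_mem_QJ hW h hg' (inv_mem hw) hu
  rwa [inv_inv] at this

theorem monBy_nR' (j : Fin D.rank) :
    MonBy hW (nR hW j : GL D.Idx F) (h.rootPerm (M.simple j)) :=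
  wPerm_eq_rootPerm hW h j ▸ monBy_nR hW j

theorem radSet_ncard {J : Finset (Fin D.rank)} {t : M.Group} (ht : IsTopRep h J t) :
    (radSet J : Set (Root D)).ncard + ℓ t = half D := by
  classical
  have hh := hW.good.two_half
  have hpos : (Finset.univ.filter fun r : Root D => half D ≤ (r : ℕ)).card = half D := by
    refine (Finset.card_bij' (s := Finset.univ.filter fun r : Root D => half D ≤ (r : ℕ))
      (t := Finset.range (half D)) (fun r _ => (r : ℕ) - half D)
      (fun i hi => (⟨half D + i, by rw [Finset.mem_range] at hi; omega⟩ : Root D)) ?_ ?_ ?_ ?_).trans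
      (Finset.card_range _)
    · intro r hr
      have := r.isLt
      rw [Finset.mem_filter] at hr
      rw [Finset.mem_range]
      omega
    · intro i hi
      exact Finset.mem_filter.2 ⟨Finset.mem_univ _, Nat.le_add_right _ _⟩
    · intro r hr
      rw [Finset.mem_filter] at hr
      exact Fin.ext (by simp only; omega)
    · intro i hi
      simp
  have hinv : h.invSet t = (Finset.univ.filter fun r : Root D => half D ≤ (r : ℕ)).filter
      fun r => SuppJ J r := by
    ext r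
    rw [mem_invSet_top h ht, Finset.mem_filter, Finset.mem_filter, posIdx_iff hW.good h]
    simp
  have hrad : (radSet J : Set (Root D)) = ↑((Finset.univ.filter fun r : Root D =>
      half D ≤ (r : ℕ)).filter fun r => ¬ SuppJ J r) := by
    ext r
    simp [radSet]
  rw [h.length_eq_card_invSet, hinv, hrad, Set.ncard_coe_finset, add_comm]
  exact (Finset.card_filter_add_card_filter_not _).trans hpos

variable [Finite F]

omit h in
theorem card_pow_le_QJ (J : Finset (Fin D.rank)) :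
    Nat.card F ^ (radSet J : Set (Root D)).ncard ≤ Nat.card (QJ hW F J) := by
  classical
  have hh := hW.good.two_half
  rw [← Nat.card_coe_set_eq, ← Nat.card_fun]
  let ext' : (↥(radSet (D := D) J) → F) → ℕ → F := fun f k =>
    if hk : ∃ hk : k < D.nroots, (⟨k, hk⟩ : Root D) ∈ radSet J then
      f ⟨⟨k, hk.choose⟩, hk.choose_spec⟩ else 0
  have hmem : ∀ f, prodFrom hW.good false (ext' f) (half D) (half D) ∈ QJ hW F J := by
    intro f
    refine Subgroup.list_prod_mem _ fun x hx => ?_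
    obtain ⟨k, hk, rfl⟩ := List.mem_map.1 hx
    rw [List.mem_range'_1] at hk
    have hk' : k < D.nroots := by omega
    rw [rootOf_false hW.good hk']
    by_cases hr : (⟨k, hk'⟩ : Root D) ∈ radSet J
    · exact X_mem_rootGen _ hr _
    · have : ext' f k = 0 := dif_neg fun ⟨_, e⟩ => hr e
      rw [this, X_zero]
      exact one_mem _
  refine Nat.card_le_card_of_injective (fun f => (⟨_, hmem f⟩ : QJ hW F J)) fun f g e => ?_
  funext ⟨r, hr⟩
  have h1 := prodFrom_injective hW.toGoodUni (half D) (half D) le_rfl (by omega) _ _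
    (congrArg Subtype.val e) r hr.1 (by have := r.isLt; omega)
  have key : ∀ f, ext' f (r : ℕ) = f ⟨r, hr⟩ := fun f => by
    simp only [ext']
    rw [dif_pos ⟨r.isLt, hr⟩]
  rw [key, key] at h1
  exact h1

omit h in
theorem card_borel :
    Nat.card (D.borelSubgroup F) = Nat.card F ^ half D * Nat.card (D.diagonalSubgroup F) := by
  rw [← natCard_uGe (b := false) hW.toGoodUni, ← posUnipotent_eq hW.good, ← Nat.card_prod]
  refine (Nat.card_eq_of_bijective (fun p : D.posUnipotent F × D.diagonalSubgroup F =>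
    (⟨p.1 * p.2, mul_mem (pos_le_borel D p.1.2) (diag_le_borel D p.2.2)⟩ : D.borelSubgroup F))
    ⟨?_, ?_⟩).symm
  · rintro ⟨⟨u, hu⟩, ⟨k, hk⟩⟩ ⟨⟨u', hu'⟩, ⟨k', hk'⟩⟩ e
    have e' : u * k = u' * k' := congrArg Subtype.val e
    have hmem : u'⁻¹ * u ∈ D.posUnipotent F ⊓ D.diagonalSubgroup F :=
      Subgroup.mem_inf.2 ⟨mul_mem (inv_mem hu') hu, by
        rw [show u'⁻¹ * u = k' * k⁻¹ by
          rw [eq_mul_inv_iff_mul_eq, mul_assoc, e', inv_mul_cancel_left]]
        exact mul_mem hk' (inv_mem hk)⟩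
    rw [pos_inf_diag hW, Subgroup.mem_bot, inv_mul_eq_one] at hmem
    subst hmem
    obtain rfl := mul_left_cancel e'
    rfl
  · rintro ⟨g, hg⟩
    obtain ⟨u, hu, k, hk, rfl⟩ := (mem_borel_iff hW).1 hg
    exact ⟨(⟨u, hu⟩, ⟨k, hk⟩), rfl⟩

/-- The stabiliser in `B` of the coset of `n`. -/
def oppStab (n : GL D.Idx F) : Subgroup (GL D.Idx F) :=
  D.borelSubgroup F ⊓ (D.borelSubgroup F).comap (MulAut.conj n⁻¹).toMonoidHom

omit hW h [Finite F] in
theorem mem_oppStab {n g : GL D.Idx F} :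
    g ∈ oppStab n ↔ g ∈ D.borelSubgroup F ∧ n⁻¹ * g * n ∈ D.borelSubgroup F := by
  simp [oppStab]

theorem card_oppStab (w : M.Group) :
    Nat.card (oppStab (nW hW h F w)) * Nat.card F ^ ℓ w = Nat.card (D.borelSubgroup F) := by
  classical
  set B := D.borelSubgroup F
  set n := nW hW h F w
  have horb : MulAction.orbit B (n : GL D.Idx F ⧸ B) = cellQ hW h F w := by
    ext x
    constructor
    · rintro ⟨⟨b, hb⟩, rfl⟩
      exact ⟨b * n, ⟨b, hb, 1, one_mem _, mul_one _⟩, rfl⟩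
    · rintro ⟨_, ⟨b, hb, b', hb', rfl⟩, rfl⟩
      refine ⟨⟨b, hb⟩, QuotientGroup.eq.2 ?_⟩
      show (b * n)⁻¹ * (b * n * b') ∈ B
      rwa [inv_mul_cancel_left]
  have hst : MulAction.stabilizer B (n : GL D.Idx F ⧸ B) = (oppStab n).subgroupOf B := by
    ext ⟨b, hb⟩
    rw [MulAction.mem_stabilizer_iff, Subgroup.mem_subgroupOf, mem_oppStab]
    show ((b * n : GL D.Idx F) : GL D.Idx F ⧸ B) = n ↔ b ∈ B ∧ n⁻¹ * b * n ∈ B
    rw [QuotientGroup.eq]
    constructor
    · intro e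
      refine ⟨hb, ?_⟩
      have := inv_mem e
      rwa [mul_inv_rev, inv_inv, ← mul_assoc] at this
    · rintro ⟨-, e⟩
      have := inv_mem e
      rwa [show (n⁻¹ * b * n)⁻¹ = (b * n)⁻¹ * n by group] at this
  have h1 := MulAction.index_stabilizer (G := B) (n : GL D.Idx F ⧸ B)
  rw [horb, hst, ← Nat.card_coe_set_eq, natCard_cellQ] at h1
  rw [← Subgroup.card_mul_index ((oppStab n).subgroupOf B), h1]
  congr 1
  exact (Nat.card_congr (Subgroup.subgroupOfEquivOfLe inf_le_left).toEquiv).symm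

variable {J : Finset (Fin D.rank)} {t : M.Group} (ht : IsTopRep h J t)
include ht

theorem QJ_le_oppStab : QJ hW F J ≤ oppStab (nW hW h F t) := fun _ hu =>
  mem_oppStab.2 ⟨QJ_le_borel hW J hu,
    QJ_le_borel hW J (conj_inv_mem_QJ hW h (monBy_nW hW h t) ht.1 hu)⟩

theorem diag_le_oppStab : D.diagonalSubgroup F ≤ oppStab (nW hW h F t) := by
  intro k hk
  refine mem_oppStab.2 ⟨diag_le_borel D hk, diag_le_borel D ?_⟩
  have := (Subgroup.mem_normalizer_iff.1
    (monomial_le_normalizer hW (inv_mem (nW_mem (F := F) hW h t))) k).1 hk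
  rwa [inv_inv] at this

/-- `B ∩ n B n⁻¹ = Q H`, and the order of `Q`. -/
theorem oppStab_data :
    Nat.card (QJ hW F J) * Nat.card F ^ ℓ t = Nat.card F ^ half D ∧
    ∀ g ∈ oppStab (nW hW h F t), ∃ u ∈ QJ hW F J, ∃ k ∈ D.diagonalSubgroup F, u * k = g := by
  set q := Nat.card F
  set T := oppStab (nW hW h F t)
  set Q := QJ hW F J
  set H := D.diagonalSubgroup F
  have hH : 0 < Nat.card H := Nat.card_pos
  have hq : 0 < q := Nat.card_pos
  have hT : Nat.card T * q ^ ℓ t = q ^ half D * Nat.card H :=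
    (card_oppStab hW h t).trans (card_borel hW)
  let φ : Q × H → T := fun p =>
    ⟨p.1 * p.2, mul_mem (QJ_le_oppStab hW h ht p.1.2) (diag_le_oppStab hW h ht p.2.2)⟩
  have hφ : Function.Injective φ := by
    rintro ⟨⟨u, hu⟩, ⟨k, hk⟩⟩ ⟨⟨u', hu'⟩, ⟨k', hk'⟩⟩ e
    have e' : u * k = u' * k' := congrArg Subtype.val e
    have hmem : u'⁻¹ * u ∈ D.posUnipotent F ⊓ H :=
      Subgroup.mem_inf.2 ⟨QJ_le_pos hW J (mul_mem (inv_mem hu') hu), by
        rw [show u'⁻¹ * u = k' * k⁻¹ by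
          rw [eq_mul_inv_iff_mul_eq, mul_assoc, e', inv_mul_cancel_left]]
        exact mul_mem hk' (inv_mem hk)⟩
    rw [pos_inf_diag hW, Subgroup.mem_bot, inv_mul_eq_one] at hmem
    subst hmem
    obtain rfl := mul_left_cancel e'
    rfl
  have hle : Nat.card Q * Nat.card H ≤ Nat.card T := by
    rw [← Nat.card_prod]; exact Nat.card_le_card_of_injective φ hφ
  have h2 := radSet_ncard hW h ht
  have hQ : q ^ half D ≤ Nat.card Q * q ^ ℓ t := by
    rw [← h2, pow_add]
    exact Nat.mul_le_mul_right _ (card_pow_le_QJ hW J)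
  have hQ' : Nat.card Q * q ^ ℓ t = q ^ half D := by
    refine le_antisymm ?_ hQ
    have h3 := Nat.mul_le_mul_right (q ^ ℓ t) hle
    rw [hT, mul_right_comm] at h3
    exact Nat.le_of_mul_le_mul_right h3 hH
  refine ⟨hQ', fun g hg => ?_⟩
  have hcard : Nat.card (Q × H) = Nat.card T := by
    rw [Nat.card_prod]
    refine Nat.eq_of_mul_eq_mul_right (pow_pos hq (ℓ t)) ?_
    rw [hT, ← hQ']
    ring
  obtain ⟨⟨⟨u, hu⟩, ⟨k, hk⟩⟩, e⟩ := (hφ.bijective_of_nat_card_le hcard.ge).2 ⟨g, hg⟩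
  exact ⟨u, hu, k, hk, congrArg Subtype.val e⟩

theorem mem_QJ_of_mem {u : GL D.Idx F} (hu : u ∈ D.posUnipotent F)
    (hu' : (nW hW h F t)⁻¹ * u * nW hW h F t ∈ D.borelSubgroup F) : u ∈ QJ hW F J := by
  obtain ⟨v, hv, k, hk, e⟩ :=
    (oppStab_data hW h ht).2 u (mem_oppStab.2 ⟨pos_le_borel D hu, hu'⟩)
  have hkU : k ∈ D.posUnipotent F := by
    rw [show k = v⁻¹ * u by rw [← e, inv_mul_cancel_left]]
    exact mul_mem (inv_mem (QJ_le_pos hW J hv)) hu
  have hk1 : k ∈ D.posUnipotent F ⊓ D.diagonalSubgroup F := Subgroup.mem_inf.2 ⟨hkU, hk⟩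
  rw [pos_inf_diag hW, Subgroup.mem_bot] at hk1
  rw [← e, hk1, mul_one]
  exact hv

theorem X_conj_mem_QJ {j : Fin D.rank} (hj : j ∈ J) (v : F) {u : GL D.Idx F}
    (hu : u ∈ QJ hW F J) :
    X hW.good (pRoot hW j) v * u * (X hW.good (pRoot hW j) v)⁻¹ ∈ QJ hW F J := by
  obtain ⟨i, hi, -, hri⟩ := exists_top_conj h ht hj
  rw [negRoot_eq_rev hW h, simpleRoot_eq hW h, simpleRoot_eq hW h] at hri
  refine mem_QJ_of_mem hW h ht
    (rootGen_posCompl_le hW j (X_conj_posCompl hW j v (QJ_le_posCompl hW h hj hu))) ?_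
  set n := nW hW h F t
  set x := X hW.good (pRoot hW j) v with hx
  obtain ⟨c, hc⟩ := (monBy_nW (F := F) hW h t).inv.conj_X (pRoot hW j)
  rw [inv_inv, ← map_inv, top_inv h ht, hri] at hc
  set y := X hW.good (pRoot hW i) (-((c : F) * v)) with hy
  have hny : n⁻¹ * x * n = nR hW i * y * (nR hW i)⁻¹ := by
    rw [hy, nR_conj, hW.wPerm_pRoot, hW.eta_pRoot, Int.cast_neg, Int.cast_one, neg_one_mul,
      neg_neg, hx, hc]
  have hn' := conj_inv_mem_QJ hW h (monBy_nW hW h t) ht.1 hu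
  have hni := conj_inv_mem_QJ hW h (monBy_nR' (F := F) hW h i) (simple_mem_wSub hi) hn'
  have := nR_conj_posCompl hW i
    (X_conj_posCompl hW i (-((c : F) * v)) (QJ_le_posCompl hW h hi hni))
  rw [show n⁻¹ * (x * u * x⁻¹) * n = (n⁻¹ * x * n) * (n⁻¹ * u * n) * (n⁻¹ * x * n)⁻¹ by group,
    hny, show (nR hW i * y * (nR hW i)⁻¹) * (n⁻¹ * u * n) * (nR hW i * y * (nR hW i)⁻¹)⁻¹ =
      nR hW i * (y * ((nR hW i)⁻¹ * (n⁻¹ * u * n) * nR hW i) * y⁻¹) * (nR hW i)⁻¹ by group]
  exact pos_le_borel D (rootGen_posCompl_le hW i this)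

theorem PJ_le_normalizer : PJ hW F J ≤ Subgroup.normalizer (QJ hW F J : Set (GL D.Idx F)) := by
  set K := Subgroup.normalizer (QJ hW F J : Set (GL D.Idx F))
  have hn : ∀ j ∈ J, (nR hW j : GL D.Idx F) ∈ K := fun j hj =>
    mem_normalizer_of_conj
      (fun u hu => conj_mem_QJ hW h (monBy_nR' hW h j) (simple_mem_wSub hj) hu)
      (fun u hu => conj_inv_mem_QJ hW h (monBy_nR' hW h j) (simple_mem_wSub hj) hu)
  have hx : ∀ j ∈ J, ∀ v : F, X hW.good (pRoot hW j) v ∈ K := fun j hj v =>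
    mem_normalizer_of_conj (fun u hu => X_conj_mem_QJ hW h ht hj v hu) fun u hu => by
      have := X_conj_mem_QJ hW h ht hj (-v) hu
      rwa [← X_inv, inv_inv] at this
  have hinv : ∀ w ∈ wSub M J, ∀ r : Root D, Weyl.PosIdx r → ¬ Weyl.PosIdx (h.rootPerm w r) →
      ∀ v : F, X hW.good r v ∈ K := by
    intro w hw
    refine wSub_induction (P := fun w => ∀ r : Root D, Weyl.PosIdx r →
      ¬ Weyl.PosIdx (h.rootPerm w r) → ∀ v : F, X hW.good r v ∈ K) ?_ (fun w _ ih j hj => ?_) hw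
    · intro r hr hn' v
      simp at hn'
      exact absurd hr hn'
    · intro r hr hn' v
      by_cases hrj : r = pRoot hW j
      · exact hrj ▸ hx j hj v
      · rw [map_mul, Equiv.Perm.mul_apply] at hn'
        have hr' := h.pos_simple_apply (i := j) (by rwa [simpleRoot_eq hW h]) hr
        have hmem := mul_mem (mul_mem (hn j hj) (ih _ hr' hn'
          ((eta D j (h.rootPerm (M.simple j) r) : F) * v))) (inv_mem (hn j hj))
        rw [nR_conj, wPerm_eq_rootPerm hW h, h.simple_apply_apply, ← mul_assoc, ← Int.cast_mul,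
          hW.eta_sq, Int.cast_one, one_mul] at hmem
        exact hmem
  refine sup_le (sup_le ?_ (diag_le_normalizer_rootGen hW _)) ((Subgroup.closure_le _).2 ?_)
  · rw [posUnipotent_eq_rootGen hW.good]
    refine rootGen_le _ fun r hr v => ?_
    by_cases hs : SuppJ J r
    · have hp := (posIdx_iff hW.good h r).2 hr
      exact hinv t ht.1 r hp (not_pos_of_neg h ht.2 hp hs) v
    · exact Subgroup.le_normalizer (X_mem_rootGen _ (S := radSet J)
        (show half D ≤ (r : ℕ) ∧ ¬ SuppJ J r from ⟨hr, hs⟩) v)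
  · rintro _ ⟨j, hj, rfl⟩
    exact hn j hj

end CfsgLib.ChevUnip
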